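import Groth.Agent.FibDesc.K781.Extra
import Groth.Agent.Dcoh.KFlatSES
import Mathlib.Algebra.Homology.Embedding.CochainComplex

/-!
# Total cobar complexes

`tot` : complexes of cosimplicial abelian groups ⥤ complexes of abelian groups (total complex of the alternating
coface complexes).  `RG c = tot ∘ c` for an exact functor `c : C ⥤ (SimplexCategory ⥤ Ab)`.

* `shortExact` : exact on short exact sequences; `isStrictlyGE`; `quasiIso` : quasi-isomorphisms of bounded below
  complexes; `exactAt` : vanishing.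
-/

set_option autoImplicit false
set_option backward.isDefEq.respectTransparency false
set_option backward.isDefEq.respectTransparency.types false

universe t w v u

open CategoryTheory CategoryTheory.Limits HomologicalComplex HomologicalComplex₂ ComplexShape

namespace Groth.Agent.ResProp.EF.K874

open K781.Desc Groth.Agent.Htor.H253.TotalQuasi Groth.Agent.Htor.H253.TotalPrj Groth.Agent.Dcoh.KFlatSES

section Tot

variable {D : Type u} [Category.{v} D] [Abelian D] [HasCountableCoproducts D] [CountableAB4 D]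

instance totalFunctor_additive [∀ K : HomologicalComplex₂ D (up ℤ) (up ℤ), K.HasTotal (up ℤ)] :
    (totalFunctor D (up ℤ) (up ℤ) (up ℤ)).Additive where
  map_add {K L f g} := by
    ext n : 1
    refine total.hom_ext _ (fun p q h => ?_)
    change _ ≫ (total.map (f + g) (up ℤ)).f n = _ ≫ ((total.map f (up ℤ)).f n + (total.map g (up ℤ)).f n)
    rw [Preadditive.comp_add, ιTotal_map, ιTotal_map, ιTotal_map, ← Preadditive.add_comp]
    rfl

/-- The total complex is exact. -/
lemma shortExact_total (S : ShortComplex (HomologicalComplex₂ D (up ℤ) (up ℤ)))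
    (h : ∀ p q : ℤ, ((S.map (HomologicalComplex.eval (CochainComplex D ℤ) (up ℤ) p)).map
      (HomologicalComplex.eval D (up ℤ) q)).ShortExact) :
    (S.map (totalFunctor D (up ℤ) (up ℤ) (up ℤ))).ShortExact := by
  refine HomologicalComplex.shortExact_of_degreewise_shortExact _ (fun n => ?_)
  let I := (ComplexShape.π (up ℤ) (up ℤ) (up ℤ) ⁻¹' {n})
  let S' : ShortComplex D := ShortComplex.mk
    (Limits.Sigma.map (f := fun i : I => (S.X₁.X i.1.1).X i.1.2)
      (g := fun i : I => (S.X₂.X i.1.1).X i.1.2) (fun i => (S.f.f i.1.1).f i.1.2))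
    (Limits.Sigma.map (g := fun i : I => (S.X₃.X i.1.1).X i.1.2)
      (fun i => (S.g.f i.1.1).f i.1.2)) (by
      ext i
      simp [← HomologicalComplex.comp_f_assoc, ← HomologicalComplex.comp_f])
  have hS' : S'.ShortExact := shortExact_coproduct (D := D) (I := I) _ _ _ _ _
    (fun i => by
      rw [← HomologicalComplex.comp_f, ← HomologicalComplex.comp_f, S.zero]
      simp)
    (fun i => h i.1.1 i.1.2)
  let e : S' ≅ (S.map (totalFunctor D (up ℤ) (up ℤ) (up ℤ))).map (HomologicalComplex.eval D (up ℤ) n) :=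
    ShortComplex.isoMk (Iso.refl _) (Iso.refl _) (Iso.refl _)
      (by
        refine Limits.Sigma.hom_ext _ _ (fun i => ?_)
        dsimp [S']
        simp
        exact (ιTotal_map _ _ S.f (up ℤ) i.1.1 i.1.2 n i.2))
      (by
        refine Limits.Sigma.hom_ext _ _ (fun i => ?_)
        dsimp [S']
        simp
        exact (ιTotal_map _ _ S.g (up ℤ) i.1.1 i.1.2 n i.2))
  exact ShortComplex.shortExact_of_iso e hS'

end Tot

section Cf

variable {D : Type u} [Category.{v} D] [Abelian D]

/-- The terms of `cf`. -/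
noncomputable def cfEval (n : ℕ) (j : ℤ) (h : (n : ℤ) = j) :
    cf D ⋙ HomologicalComplex.eval D (up ℤ) j ≅ (evaluation SimplexCategory D).obj (SimplexCategory.mk n) :=
  NatIso.ofComponents (fun P => θ P n j h) (fun f => θ_naturality f n j h)

lemma shortExact_cf_eval (S : ShortComplex (SimplexCategory ⥤ D)) (hS : S.ShortExact) (j : ℤ) :
    ((S.map (cf D)).map (HomologicalComplex.eval D (up ℤ) j)).ShortExact := by
  by_cases hj : 0 ≤ j
  · obtain ⟨n, hn⟩ := Int.eq_ofNat_of_zero_le hj
    have h1 : (S.map ((evaluation SimplexCategory D).obj (SimplexCategory.mk n))).ShortExact :=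
      hS.map_of_exact _
    exact ShortComplex.shortExact_of_iso (S.mapNatIso (cfEval n j hn.symm).symm) h1
  · have hz : ∀ P : SimplexCategory ⥤ D, IsZero (((cf D).obj P).X j) := fun P => isZero_neg P j (by lia)
    exact
      { exact := ShortComplex.exact_of_isZero_X₂ _ (hz S.X₂)
        mono_f := ⟨fun _ _ _ => (hz S.X₁).eq_of_tgt _ _⟩
        epi_g := ⟨fun _ _ _ => (hz S.X₃).eq_of_src _ _⟩ }

end Cf

section RG

variable {C : Type*} [Category* C] [Abelian C] {D : Type u} [Category.{v} D] [Abelian D]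
  [HasCountableCoproducts D] [CountableAB4 D]
  (c : C ⥤ (SimplexCategory ⥤ D)) [c.Additive]

/-- The bicomplex. -/
noncomputable abbrev bi : CochainComplex C ℤ ⥤ HomologicalComplex₂ D (up ℤ) (up ℤ) :=
  (c ⋙ cf D).mapHomologicalComplex (up ℤ)

/-- The total cobar complex. -/
noncomputable def RG : CochainComplex C ℤ ⥤ CochainComplex D ℤ :=
  bi c ⋙ totalFunctor D (up ℤ) (up ℤ) (up ℤ)

instance RG_additive : (RG c).Additive := by
  unfold RG
  infer_instance

omit [HasCountableCoproducts D] [CountableAB4 D] in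
lemma isZero_bi (K : CochainComplex C ℤ) (m : ℤ) (hK : ∀ i, i < m → IsZero (K.X i)) (p q : ℤ)
    (h : p < m ∨ q < 0) : IsZero ((((bi c).obj K).X p).X q) := by
  rcases h with h | h
  · exact isZero_of_isZero _ (c.map_isZero (hK p h)) q
  · exact isZero_neg _ q h

omit [HasCountableCoproducts D] [CountableAB4 D] in
lemma bdd_bi (K : CochainComplex C ℤ) (m : ℤ) (hK : ∀ i, i < m → IsZero (K.X i)) : Bdd ((bi c).obj K) :=
  fun n => ⟨m, n, fun i j hij hi => isZero_bi c K m hK i j (by lia)⟩

omit [CountableAB4 D] in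
/-- Degree bounds. -/
lemma isZero_RG_X (K : CochainComplex C ℤ) (m : ℤ) (hK : ∀ i, i < m → IsZero (K.X i)) (n : ℤ) (hn : n < m) :
    IsZero (((RG c).obj K).X n) := by
  rw [IsZero.iff_id_eq_zero]
  refine total.hom_ext _ (fun p q h => ?_)
  have h' : p + q = n := h
  exact (isZero_bi c K m hK p q (by lia)).eq_of_src _ _

variable [PreservesFiniteLimits c] [PreservesFiniteColimits c]

/-- `RG` is exact. -/
theorem shortExact_RG (S : ShortComplex (CochainComplex C ℤ)) (hS : S.ShortExact) :
    (S.map (RG c)).ShortExact := by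
  refine shortExact_total (S.map (bi c)) (fun p q => ?_)
  have h1 : (S.map (HomologicalComplex.eval C (up ℤ) p)).ShortExact := hS.map_of_exact _
  have h2 : ((S.map (HomologicalComplex.eval C (up ℤ) p)).map c).ShortExact := h1.map_of_exact _
  exact shortExact_cf_eval _ h2 q

omit [CountableAB4 D] in
/-- `RG` preserves quasi-isomorphisms of bounded below complexes. -/
theorem quasiIso_RG {K L : CochainComplex C ℤ} (f : K ⟶ L) [hf : QuasiIso f] (m : ℤ)
    (hK : ∀ i, i < m → IsZero (K.X i)) (hL : ∀ i, i < m → IsZero (L.X i)) : QuasiIso ((RG c).map f) := by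
  refine quasiIso_total_map_of_flip ((bi c).map f) (bdd_bi c K m hK) (bdd_bi c L m hL) fun j => ?_
  by_cases hj : 0 ≤ j
  · obtain ⟨n, hn⟩ := Int.eq_ofNat_of_zero_le hj
    have h1 : QuasiIso (((c ⋙ (evaluation SimplexCategory D).obj (SimplexCategory.mk n)).mapHomologicalComplex
        (up ℤ)).map f) := inferInstance
    exact quasiIso_of_natIso (H := c ⋙ (evaluation SimplexCategory D).obj (SimplexCategory.mk n))
      (H' := c ⋙ cf D ⋙ HomologicalComplex.eval D (up ℤ) j)
      (Functor.isoWhiskerLeft c (cfEval n j hn.symm).symm) f h1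
  · exact quasiIso_of_isZero _ (fun i => isZero_neg _ j (by lia)) (fun i => isZero_neg _ j (by lia))

omit [CountableAB4 D] in
/-- Vanishing. -/
theorem exactAt_RG (K : CochainComplex C ℤ) (a m : ℤ) (hK : ∀ i, i < a → IsZero (K.X i))
    (hm : ∀ i, i < m → K.ExactAt i) (i : ℤ) (hi : i < m) : ((RG c).obj K).ExactAt i := by
  have hGE : CochainComplex.IsGE K m := (CochainComplex.isGE_iff K m).2 hm
  have hq : QuasiIso (CochainComplex.πTruncGE K m) := (CochainComplex.quasiIso_πTruncGE_iff K m).2 hGE
  have hz : ∀ j, j < m → IsZero ((CochainComplex.truncGE K m).X j) := fun j hj =>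
    CochainComplex.isZero_of_isStrictlyGE _ m j hj
  have h1 := quasiIso_RG c (CochainComplex.πTruncGE K m) (min a m) (fun j hj => hK j (by lia))
    (fun j hj => hz j (by lia))
  rw [exactAt_iff_of_quasiIsoAt ((RG c).map (CochainComplex.πTruncGE K m)) i]
  exact ShortComplex.exact_of_isZero_X₂ _ (isZero_RG_X c _ m hz i hi)

end RG

section Aug

variable {C : Type*} [Category* C] [Abelian C] {D : Type u} [Category.{v} D] [Abelian D]
  [HasCountableCoproducts D] {B : Type*} [Category* B] [Abelian B]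
  (c : C ⥤ (SimplexCategory ⥤ D)) [c.Additive] (l : B ⥤ C) [l.Additive] (X : B ⥤ (Dp ⥤ D)) [X.Additive]
  (F : B ⥤ D) [F.Additive] (e : X ⋙ rF D ≅ l ⋙ c) (e0 : F ≅ X ⋙ eF D)

/-- `F N ⟶ Tot (X N)` -/
noncomputable def aug1 : (X ⋙ eF D).mapHomologicalComplex (up ℤ) ⟶
    (X ⋙ rF D ⋙ cf D).mapHomologicalComplex (up ℤ) ⋙ totalFunctor D (up ℤ) (up ℤ) (up ℤ) where
  app N := (Groth.Agent.Htor.H253.TotalRow.rowIso (((X ⋙ eF D).mapHomologicalComplex (up ℤ)).obj N)).hom ≫
    total.map (α ((X.mapHomologicalComplex (up ℤ)).obj N)) (up ℤ)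
  naturality N N' f := by
    have h1 := rowIso_naturality (((X ⋙ eF D).mapHomologicalComplex (up ℤ)).map f)
    have h2 := α_naturality ((X.mapHomologicalComplex (up ℤ)).map f)
    rw [reassoc_of% h1, Category.assoc]
    congr 1
    erw [← total.map_comp, ← total.map_comp]
    exact congrArg (fun t => total.map t (up ℤ)) h2

lemma quasiIso_aug1 (N : CochainComplex B ℤ) (hN : BB N) (hX : ∀ M : B, AugExact (X.obj M)) :
    QuasiIso ((aug1 X).app N) := by
  have h1 : IsDesc ((X.mapHomologicalComplex (up ℤ)).obj N) := by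
    refine isDesc_of_augExact ?_ (fun q => hX (N.X q))
    obtain ⟨a, ha⟩ := hN
    exact ⟨a, fun i hi => X.map_isZero (ha i hi)⟩
  have h2 : QuasiIso (total.map (α ((X.mapHomologicalComplex (up ℤ)).obj N)) (up ℤ)) := h1
  change QuasiIso (_ ≫ _)
  infer_instance

/-- `Tot (X N) ≅ RG (l N)` -/
noncomputable def augIso : (X ⋙ rF D ⋙ cf D).mapHomologicalComplex (up ℤ) ⋙ totalFunctor D (up ℤ) (up ℤ) (up ℤ) ≅
    l.mapHomologicalComplex (up ℤ) ⋙ RG c :=
  Functor.isoWhiskerRight (NatIso.mapHomologicalComplex (Functor.isoWhiskerRight e (cf D)) (up ℤ)) _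

/-- `F N ⟶ RG (l N)` -/
noncomputable def augRG : F.mapHomologicalComplex (up ℤ) ⟶ l.mapHomologicalComplex (up ℤ) ⋙ RG c :=
  (NatIso.mapHomologicalComplex e0 (up ℤ)).hom ≫ aug1 X ≫ (augIso c l X e).hom

/-- `F N ⟶ RG (l N)` is a quasi-isomorphism for bounded below `N`. -/
theorem quasiIso_augRG (N : CochainComplex B ℤ) (hN : BB N) (hX : ∀ M : B, AugExact (X.obj M)) :
    QuasiIso ((augRG c l X F e e0).app N) := by
  have h1 := quasiIso_aug1 X N hN hX
  change QuasiIso (_ ≫ _ ≫ _)
  infer_instance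

end Aug

end Groth.Agent.ResProp.EF.K874
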