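import Groth.Agent.ResProp.EF.K874.RG
import Groth.Agent.ResProp.EF.K573.DualRep
import Groth.Agent.ResProp.EF.K476.MumBdd
import Groth.Agent.ResProp.EF.F5.Iface

/-!
# (c1), (c2): the functor `h Y = H^0(RG (Th Y))` is cohomological and represented on push-forwards

`Th` is `- ⊗ Ψ` (or `Ψ ⊗ -`); `RG` the total cobar complex.
-/

set_option autoImplicit false
set_option backward.isDefEq.respectTransparency false
set_option backward.isDefEq.respectTransparency.types false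

universe t w v u

open CategoryTheory CategoryTheory.Limits HomologicalComplex HomologicalComplex₂ ComplexShape

namespace Groth.Agent.ResProp.EF.K874

open K781.Desc Groth.Agent.ResProp.EF.K294 Groth.Agent.ResProp.EF.F5 Groth.Agent.PerfB.RingKFlat

section MapHom

variable {C₁ : Type*} [Category* C₁] [Abelian C₁] {C₂ : Type*} [Category* C₂] [Abelian C₂]
  (F : C₁ ⥤ C₂) [F.Additive] [PreservesFiniteLimits F] [PreservesFiniteColimits F]

/-- homology commutes with an exact functor. -/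
noncomputable def mapHom (n : ℤ) :
    F.mapHomologicalComplex (up ℤ) ⋙ HomologicalComplex.homologyFunctor C₂ _ n ≅
      HomologicalComplex.homologyFunctor C₁ (up ℤ) n ⋙ F :=
  Functor.isoWhiskerLeft (F.mapHomologicalComplex (up ℤ))
    (HomologicalComplex.homologyFunctorIso C₂ (up ℤ) n) ≪≫
  (Iso.refl _ : F.mapHomologicalComplex (up ℤ) ⋙
      HomologicalComplex.shortComplexFunctor C₂ (up ℤ) n ⋙
        ShortComplex.homologyFunctor C₂ ≅
      HomologicalComplex.shortComplexFunctor C₁ (up ℤ) n ⋙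
        F.mapShortComplex ⋙ ShortComplex.homologyFunctor C₂) ≪≫
  Functor.isoWhiskerLeft (HomologicalComplex.shortComplexFunctor C₁ (up ℤ) n)
    (ShortComplex.homologyFunctorIso F) ≪≫
  Functor.isoWhiskerRight (HomologicalComplex.homologyFunctorIso C₁ (up ℤ) n).symm F

end MapHom

section Coh

variable {C : Type v} [Category.{w} C] [Abelian C]
  (c : C ⥤ (SimplexCategory ⥤ AddCommGrpCat.{t})) [c.Additive] [PreservesFiniteLimits c] [PreservesFiniteColimits c]
  (Th : CochainComplex C ℤ ⥤ CochainComplex C ℤ) [Th.Additive]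

/-- `h Y = H^0(RG (Th Y))` -/
noncomputable def hTh : CochainComplex C ℤ ⥤ AddCommGrpCat.{t} :=
  Th ⋙ RG c ⋙ HomologicalComplex.homologyFunctor _ (up ℤ) 0

/-- **(c1)** -/
theorem coh_hTh
    (ex : ∀ S : ShortComplex (CochainComplex C ℤ), S.ShortExact → F5.Bdd S.X₁ → F5.Bdd S.X₂ → F5.Bdd S.X₃ →
      (S.map Th).ShortExact)
    (a : ℤ) (ge : ∀ Z : CochainComplex C ℤ, F5.Bdd Z → ∃ m : ℤ, ∀ i, i < m → IsZero ((Th.obj Z).X i))
    (van : ∀ (N : ℤ) (Z : CochainComplex C ℤ), F5.Bdd Z → (∀ i ≤ N, Z.ExactAt i) →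
      ∀ i ≤ N + a, (Th.obj Z).ExactAt i) :
    Coh (hTh c Th) where
  additive := by
    unfold hTh
    infer_instance
  exact S hS h1 h2 h3 x hx := by
    have hS' := shortExact_RG c _ (ex S hS h1 h2 h3)
    have h := hS'.homology_exact₂ 0
    rw [ShortComplex.ab_exact_iff] at h
    exact h x hx
  vanish := by
    refine ⟨-a, fun Z hZ hex x => ?_⟩
    obtain ⟨m, hm⟩ := ge Z hZ
    have h1 := van (-a) Z hZ hex
    have h2 : ((RG c).obj (Th.obj Z)).ExactAt 0 := exactAt_RG c (Th.obj Z) m 1 hm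
      (fun i hi => h1 i (by lia)) 0 (by lia)
    have h3 : IsZero (((RG c).obj (Th.obj Z)).homology 0) := h2.isZero_homology
    have : Subsingleton ((hTh c Th).obj Z) := AddCommGrpCat.subsingleton_of_isZero h3
    exact Subsingleton.elim _ _

end Coh

section RepOn

variable {A : Type u} [CommRing A] {C : Type v} [Category.{w} C] [Abelian C] (X : Chart A C)
  (c : C ⥤ (SimplexCategory ⥤ AddCommGrpCat.{u})) [c.Additive]
  (Xa : ModuleCat.{u} A ⥤ (Dp ⥤ AddCommGrpCat.{u})) [Xa.Additive]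
  (e : Xa ⋙ rF _ ≅ X.ul ⋙ c) (e0 : forget₂ (ModuleCat.{u} A) AddCommGrpCat.{u} ≅ Xa ⋙ eF _)
  (Th : CochainComplex C ℤ ⥤ CochainComplex C ℤ)
  (Ψ : CM A)
  (p : X.ulC ⋙ Th ≅ (TR A).map₂CochainComplex.obj Ψ ⋙ X.ulC)

/-- the comparison -/
noncomputable def gam {P : CM A} (f : P ⟶ Ψ) :
    (TR A).map₂CochainComplex.obj P ⋙ homologyFunctor _ (up ℤ) 0 ⋙ forget₂ (ModuleCat.{u} A) AddCommGrpCat.{u} ⟶
      X.ulC ⋙ hTh c Th :=
  Functor.whiskerRight ((TR A).map₂CochainComplex.map f)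
    (homologyFunctor _ (up ℤ) 0 ⋙ forget₂ (ModuleCat.{u} A) AddCommGrpCat.{u}) ≫
  Functor.whiskerLeft ((TR A).map₂CochainComplex.obj Ψ)
    (mapHom (forget₂ (ModuleCat.{u} A) AddCommGrpCat.{u}) 0).inv ≫
  Functor.whiskerLeft ((TR A).map₂CochainComplex.obj Ψ)
    (Functor.whiskerRight (augRG c X.ul Xa (forget₂ (ModuleCat.{u} A) AddCommGrpCat.{u}) e e0)
      (homologyFunctor _ (up ℤ) 0)) ≫
  Functor.whiskerRight p.inv (RG c ⋙ homologyFunctor _ (up ℤ) 0)

include p in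
theorem isIso_gam {P : CM A} (f : P ⟶ Ψ) (N : CM A)
    (hf : QuasiIso (((TR A).map₂CochainComplex.map f).app N))
    (hb : BB (((TR A).map₂CochainComplex.obj Ψ).obj N)) (hX : ∀ M : ModuleCat.{u} A, AugExact (Xa.obj M)) :
    IsIso ((gam X c Xa e e0 Th Ψ p f).app N) := by
  have h1 : IsIso ((Functor.whiskerRight ((TR A).map₂CochainComplex.map f)
    (homologyFunctor _ (up ℤ) 0 ⋙ forget₂ (ModuleCat.{u} A) AddCommGrpCat.{u})).app N) := by
    have : IsIso ((homologyFunctor _ (up ℤ) 0).map (((TR A).map₂CochainComplex.map f).app N)) :=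
      inferInstanceAs (IsIso (homologyMap (((TR A).map₂CochainComplex.map f).app N) 0))
    change IsIso ((forget₂ (ModuleCat.{u} A) AddCommGrpCat.{u}).map
      ((homologyFunctor _ (up ℤ) 0).map (((TR A).map₂CochainComplex.map f).app N)))
    infer_instance
  have h2 : IsIso ((Functor.whiskerLeft ((TR A).map₂CochainComplex.obj Ψ)
    (Functor.whiskerRight (augRG c X.ul Xa (forget₂ (ModuleCat.{u} A) AddCommGrpCat.{u}) e e0)
      (homologyFunctor _ (up ℤ) 0))).app N) := by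
    have h3 := quasiIso_augRG c X.ul Xa (forget₂ (ModuleCat.{u} A) AddCommGrpCat.{u}) e e0 _ hb hX
    exact inferInstanceAs (IsIso (homologyMap ((augRG c X.ul Xa
      (forget₂ (ModuleCat.{u} A) AddCommGrpCat.{u}) e e0).app (((TR A).map₂CochainComplex.obj Ψ).obj N)) 0))
  change IsIso (_ ≫ _ ≫ _ ≫ _)
  infer_instance

/-- **(c2)**: `hTh` is represented on push-forwards. -/
theorem exists_repOn [IsNoetherianRing A] (a b : ℤ) (hge : Ψ.IsStrictlyGE a)
    (hflat : ∀ n : ℤ, Module.Flat A (Ψ.X n)) (hfin : ∀ n : ℤ, Module.Finite A (Ψ.homology n))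
    (hvan : ∀ (N : ModuleCat.{u} A) (n : ℤ), b < n → IsZero ((K476.Mum.tens Ψ N).homology n))
    (p : X.ulC ⋙ Th ≅ (TR A).map₂CochainComplex.obj Ψ ⋙ X.ulC)
    (e : Xa ⋙ rF _ ≅ X.ul ⋙ c) (e0 : forget₂ (ModuleCat.{u} A) AddCommGrpCat.{u} ≅ Xa ⋙ eF _)
    (hX : ∀ M : ModuleCat.{u} A, AugExact (Xa.obj M)) :
    ∃ (Q : CM A) (q : (hTh c Th).obj (X.ulC.obj Q)), Perf Q ∧ RepOn X (hTh c Th) Q q := by
  obtain ⟨P, f, h1, h2, h3, h4, h5, -⟩ := K476.Mum.exists_perfect Ψ hflat a b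
    (fun i hi => Ψ.isZero_of_isStrictlyGE a i hi) hfin (fun M i hi => hvan M i hi)
  have hP1 : P.IsStrictlyGE a := (CochainComplex.isStrictlyGE_iff _ _).2 (fun i hi => h3 i hi)
  have hP2 : P.IsStrictlyLE b := (CochainComplex.isStrictlyLE_iff _ _).2 (fun i hi => h4 i hi)
  obtain ⟨Q, q, hQ1, hQ2, hQ3, hQ4, hex, huniq⟩ := K573.exists_rep P a b h1 h2
  have hiso : ∀ N : CM A, F5.Bdd N → IsIso ((gam X c Xa e e0 Th Ψ p f).app N) := fun N hN => by
    obtain ⟨n, m, hN1, hN2⟩ := hN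
    refine isIso_gam X c Xa e e0 Th Ψ p f N ?_ ?_ hX
    · exact K476.MumBdd.quasiIso_app f h5 N ((K476.MumBdd.bdd_iff N).2 ⟨n, m, hN1, hN2⟩)
    · refine ⟨a + n, fun i hi => ?_⟩
      rw [IsZero.iff_id_eq_zero]
      refine HomologicalComplex.mapBifunctor.hom_ext (fun r s h => ?_)
      have h' : r + s = i := h
      refine IsZero.eq_of_src ?_ _ _
      by_cases hr : r < a
      · exact ((TR A).map_isZero (Ψ.isZero_of_isStrictlyGE a r hr)).obj _
      · exact ((TR A).obj (Ψ.X r)).map_isZero (N.isZero_of_isStrictlyGE n s (by lia))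
  refine ⟨Q, (gam X c Xa e e0 Th Ψ p f).app Q q, ⟨⟨-b, -a, hQ1, hQ2⟩, hQ3, hQ4⟩, ?_, ?_⟩
  · intro N hN x
    have := hiso N hN
    obtain ⟨g, hg⟩ := hex N ((inv ((gam X c Xa e e0 Th Ψ p f).app N)).hom x)
    refine ⟨g, ?_⟩
    have hn : ((gam X c Xa e e0 Th Ψ p f).app N).hom
        ((homologyMap (((TR A).map₂CochainComplex.obj P).map g) 0).hom q) =
        ((hTh c Th).map (X.ulC.map g)).hom (((gam X c Xa e e0 Th Ψ p f).app Q).hom q) :=
      congr($((gam X c Xa e e0 Th Ψ p f).naturality g) q)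
    rw [hg] at hn
    refine hn.symm.trans ?_
    exact congr($(IsIso.inv_hom_id ((gam X c Xa e e0 Th Ψ p f).app N)) x)
  · intro N hN g g' h i
    have := hiso N hN
    have hn : ∀ g : Q ⟶ N, ((gam X c Xa e e0 Th Ψ p f).app N).hom
        ((homologyMap (((TR A).map₂CochainComplex.obj P).map g) 0).hom q) =
        ((hTh c Th).map (X.ulC.map g)).hom (((gam X c Xa e e0 Th Ψ p f).app Q).hom q) := fun g =>
      congr($((gam X c Xa e e0 Th Ψ p f).naturality g) q)
    have hinj : Function.Injective ((gam X c Xa e e0 Th Ψ p f).app N).hom :=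
      (ConcreteCategory.bijective_of_isIso ((gam X c Xa e e0 Th Ψ p f).app N)).1
    obtain ⟨H⟩ := huniq N g g' (hinj ((hn g).trans (h.trans (hn g').symm)))
    exact H.homologyMap_eq i

end RepOn

end Groth.Agent.ResProp.EF.K874
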